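import Cfsg.Agent.H984.S4790.Comps
import Cfsg.Agent.H311.S4790.LinDisj

/-!
# S4790, T6 (helper984)
-/

set_option autoImplicit false

namespace Cfsg.Agent.H984.S4790

open Cfsg Cfsg.Agent.H697.Alm Module

universe u

variable {D E : Type u} [Group D] [Finite D] [AddCommGroup E] [Finite E] [Nontrivial E] [DistribMulAction D E]
  [FaithfulSMul D E] {F : Type u} [Field F] [Finite F] [Module F E]

/-- **T6** -/
theorem comps {p : ℕ} (hp : p.Prime) (hpE : ∀ e : E, p • e = 0) (hcop : ¬ p ∣ Nat.card D) (fr : Fr D E F) :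
    ∃ (k : ℕ) (K : Fin k → Subgroup D) (w : Fin k → ℕ), Function.Injective K ∧ (∀ i, IsComponent (K i)) ∧
      (∀ K' : Subgroup D, IsComponent K' → ∃ i, K i = K') ∧ (∀ i, K i ≤ CF D E F) ∧ (∀ i, 2 ≤ w i) ∧
      (∀ i, H698.Rep.{u, u} p (w i) (K i ⧸ Subgroup.center (K i))) ∧
      (∏ i, w i) ^ 2 * finrank F (alg E F (CF D E F ⊓ Subgroup.centralizer ((⨆ i, K i : Subgroup D) : Set D))) ≤
        finrank F E ^ 2 ∧
      (CF D E F ⊓ Subgroup.centralizer ((⨆ i, K i : Subgroup D) : Set D)).relIndex (CF D E F) ≤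
        k.factorial * ∏ i, Nat.card (MulAut (K i ⧸ Subgroup.center (K i))) := by
  have : Module.Finite F E := Module.Finite.of_finite
  exact comps_of (fun S T hS hc => Cfsg.Agent.H311.S4790.LinDisj.lin_disj S T hS hc) hp hpE hcop fr

end Cfsg.Agent.H984.S4790
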