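import Mathlib
import Cfsg.Agent.H697.Alm.Defs

/-!
# Semisimple algebras of matrices with scalar centre over a finite field (helper984, for S4790)
-/

set_option autoImplicit false

namespace Cfsg.Agent.H984.S4790

open Cfsg.Agent.H697.Alm Module
open scoped Pointwise

universe u v w

section

variable {F : Type w} [Field F] [Finite F] {S : Type w} [Ring S] [Algebra F S]

/-- **a finite semisimple algebra over a finite field with centre `F` is a matrix algebra over `F`** -/
theorem exists_matrix [Finite S] [Nontrivial S] [IsSemisimpleRing S]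
    (hcen : ∀ x : S, (∀ y : S, x * y = y * x) → ∃ c : F, x = algebraMap F S c) :
    ∃ d : ℕ, 1 ≤ d ∧ Nonempty (S ≃ₐ[F] Matrix (Fin d) (Fin d) F) := by
  classical
  have : Module.Finite F S := Module.Finite.of_finite
  obtain ⟨n, D, d, _, _, _, hd, ⟨e⟩⟩ := IsSemisimpleRing.exists_algEquiv_pi_matrix_divisionRing_finite F S
  have hfinD : ∀ i, Finite (D i) := fun i => Module.finite_of_finite F
  -- central elements of the product
  have hcen' : ∀ x : (Π i, Matrix (Fin (d i)) (Fin (d i)) (D i)), (∀ y, x * y = y * x) →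
      ∃ c : F, x = algebraMap F _ c := by
    intro x hx
    obtain ⟨c, hc⟩ := hcen (e.symm x) fun y => by
      apply e.injective
      rw [map_mul, map_mul, e.apply_symm_apply]
      exact hx _
    refine ⟨c, ?_⟩
    have h1 := congrArg e hc
    rwa [e.apply_symm_apply, AlgEquiv.commutes] at h1
  have hn : 0 < n := by
    rcases Nat.eq_zero_or_pos n with h | h
    · exfalso
      subst h
      obtain ⟨a, b, hab⟩ := exists_pair_ne S
      exact hab (e.injective (Subsingleton.elim _ _))
    · exact h
  obtain ⟨i₀⟩ : Nonempty (Fin n) := ⟨⟨0, hn⟩⟩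
  have hnt : ∀ i, Nontrivial (Matrix (Fin (d i)) (Fin (d i)) (D i)) := fun i => by
    have := hd i
    infer_instance
  have huniq : ∀ i : Fin n, i = i₀ := by
    intro i
    by_contra hne
    obtain ⟨c, hc⟩ := hcen' (Pi.single i₀ 1) fun y => by
      ext1 j
      rw [Pi.mul_apply, Pi.mul_apply]
      by_cases h : j = i₀
      · subst h
        rw [Pi.single_eq_same, one_mul, mul_one]
      · rw [Pi.single_eq_of_ne h, zero_mul, mul_zero]
    have h1 := congrFun hc i
    rw [Pi.single_eq_of_ne hne, Pi.algebraMap_apply] at h1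
    have h2 : c = 0 := by
      have := hnt i
      exact (map_eq_zero (algebraMap F (Matrix (Fin (d i)) (Fin (d i)) (D i)))).1 h1.symm
    have h3 := congrFun hc i₀
    rw [h2, Pi.single_eq_same, Pi.algebraMap_apply, map_zero] at h3
    have := hnt i₀
    exact one_ne_zero h3
  -- the division ring is `F`
  let _ : Field (D i₀) := littleWedderburn (D i₀)
  have hsurj : Function.Surjective (algebraMap F (D i₀)) := by
    intro x
    have := hd i₀
    obtain ⟨c, hc⟩ := hcen' (Pi.single i₀ (Matrix.scalar (Fin (d i₀)) x)) fun y => by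
      ext1 j
      rw [Pi.mul_apply, Pi.mul_apply]
      have hj := huniq j
      subst hj
      rw [Pi.single_eq_same]
      exact Matrix.scalar_commute x (fun r => by exact mul_comm x r) (y j)
    have h1 := congrFun hc i₀
    rw [Pi.single_eq_same, Pi.algebraMap_apply] at h1
    refine ⟨c, ?_⟩
    have h2 := congrFun (congrFun h1 0) 0
    rw [Matrix.scalar_apply, Matrix.diagonal_apply_eq, Matrix.algebraMap_matrix_apply, if_pos rfl] at h2
    exact h2.symm
  have hbij : Function.Bijective (Algebra.ofId F (D i₀)) := ⟨(algebraMap F (D i₀)).injective, hsurj⟩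
  let g : D i₀ ≃ₐ[F] F := (AlgEquiv.ofBijective (Algebra.ofId F (D i₀)) hbij).symm
  let u : Unique (Fin n) := ⟨⟨i₀⟩, huniq⟩
  let pr : (Π i, Matrix (Fin (d i)) (Fin (d i)) (D i)) →ₐ[F] Matrix (Fin (d i₀)) (Fin (d i₀)) (D i₀) :=
    Pi.evalAlgHom F _ i₀
  have hpr : Function.Bijective pr := by
    constructor
    · intro x y h
      ext1 i
      rw [huniq i]
      exact h
    · intro x
      exact ⟨Pi.single i₀ x, Pi.single_eq_same _ _⟩
  refine ⟨d i₀, ?_, ⟨(e.trans (AlgEquiv.ofBijective pr hpr)).trans g.mapMatrix⟩⟩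
  have := hd i₀
  exact Nat.one_le_iff_ne_zero.2 (NeZero.ne _)

end

section

variable {F : Type w} [Field F] {E : Type u} [AddCommGroup E] [Module F E]

theorem finrank_of_equiv {S : Subalgebra F (Module.End F E)} {d : ℕ} (e : S ≃ₐ[F] Matrix (Fin d) (Fin d) F) :
    finrank F S = d ^ 2 := by
  rw [e.toLinearEquiv.finrank_eq, finrank_matrix, Fintype.card_fin, finrank_self, mul_one, pow_two]

/-- a subalgebra which is a matrix algebra is simple -/
theorem csa_of_equiv {S : Subalgebra F (Module.End F E)} {d : ℕ} (hd : 1 ≤ d)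
    (e : S ≃ₐ[F] Matrix (Fin d) (Fin d) F)
    (hcen : ∀ x ∈ S, (∀ y ∈ S, x * y = y * x) → ∃ c : F, x = c • (1 : Module.End F E)) : CSA S := by
  refine ⟨hcen, fun x hx hx0 => ?_⟩
  have : Nonempty (Fin d) := ⟨⟨0, hd⟩⟩
  have hs : IsSimpleRing S := IsSimpleRing.of_ringEquiv e.symm.toRingEquiv inferInstance
  have h1 : TwoSidedIdeal.span ({(⟨x, hx⟩ : S)} : Set S) = ⊤ := by
    rcases hs.simple.eq_bot_or_eq_top (TwoSidedIdeal.span ({(⟨x, hx⟩ : S)} : Set S)) with h | h
    · exfalso
      have h2 : (⟨x, hx⟩ : S) ∈ TwoSidedIdeal.span ({(⟨x, hx⟩ : S)} : Set S) :=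
        TwoSidedIdeal.subset_span rfl
      rw [h, TwoSidedIdeal.mem_bot] at h2
      exact hx0 (congrArg Subtype.val h2)
    · exact h
  have h3 : (1 : S) ∈ TwoSidedIdeal.span ({(⟨x, hx⟩ : S)} : Set S) := by rw [h1]; trivial
  rw [TwoSidedIdeal.mem_span_iff_mem_addSubgroup_closure] at h3
  have key : ∀ z : S, z ∈ AddSubgroup.closure ((Set.univ : Set S) * ({(⟨x, hx⟩ : S)} : Set S) * (Set.univ : Set S)) →
      (z : Module.End F E) ∈ Submodule.span F {y | ∃ l ∈ S, ∃ r ∈ S, y = l * x * r} := by
    intro z hz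
    induction hz using AddSubgroup.closure_induction with
    | mem z hz =>
      obtain ⟨a, ⟨b, -, c, hc, rfl⟩, r, -, rfl⟩ := hz
      rw [Set.mem_singleton_iff] at hc
      subst hc
      exact Submodule.subset_span ⟨b, b.2, r, r.2, rfl⟩
    | zero => exact Submodule.zero_mem _
    | add a b _ _ ha hb => exact Submodule.add_mem _ ha hb
    | neg a _ ha => exact Submodule.neg_mem _ ha
  exact key 1 h3

end

section

variable {D : Type v} {E : Type u} {F : Type w} [Group D] [AddCommGroup E] [DistribMulAction D E] [Field F]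
  [Module F E]

/-- the linear representation of a group of linear elements -/
def rep (K : Subgroup D) (hK : K ≤ CF D E F) : K →* Module.End F E where
  toFun k :=
    { toFun := fun e => (k : D) • e
      map_add' := fun a b => smul_add _ a b
      map_smul' := fun c e => hK k.2 c e }
  map_one' := LinearMap.ext fun v => one_smul D v
  map_mul' := fun g g' => LinearMap.ext fun v => mul_smul (g : D) (g' : D) v

theorem rep_apply (K : Subgroup D) (hK : K ≤ CF D E F) (k : K) (e : E) : rep K hK k e = (k : D) • e := rfl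

theorem rep_mem (K : Subgroup D) (hK : K ≤ CF D E F) (k : K) : rep K hK k ∈ alg E F K :=
  Algebra.subset_adjoin ⟨k, k.2, fun _ => rfl⟩

/-- the group algebra maps onto `alg` -/
theorem range_lift (K : Subgroup D) (hK : K ≤ CF D E F) :
    (MonoidAlgebra.lift F (Module.End F E) K (rep K hK)).range = alg E F K := by
  apply le_antisymm
  · rintro _ ⟨x, rfl⟩
    change MonoidAlgebra.lift F (Module.End F E) K (rep K hK) x ∈ alg E F K
    induction x using MonoidAlgebra.induction_on with
    | of g =>
      rw [MonoidAlgebra.lift_of]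
      exact rep_mem K hK g
    | add a b ha hb => rw [map_add]; exact Subalgebra.add_mem _ ha hb
    | smul c a ha => rw [map_smul]; exact Subalgebra.smul_mem _ ha c
  · unfold alg
    rw [Algebra.adjoin_le_iff]
    rintro g ⟨n, hn, hg⟩
    refine ⟨MonoidAlgebra.of F K ⟨n, hn⟩, ?_⟩
    change MonoidAlgebra.lift F (Module.End F E) K (rep K hK) (MonoidAlgebra.of F K ⟨n, hn⟩) = g
    rw [MonoidAlgebra.lift_of]
    exact LinearMap.ext fun v => (hg v).symm

/-- `alg` is semisimple -/
theorem alg_semisimple [Finite D] (K : Subgroup D) (hK : K ≤ CF D E F) (hcard : (Nat.card D : F) ≠ 0) :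
    IsSemisimpleRing (alg E F K) := by
  have : NeZero (Nat.card K : F) := ⟨fun h => hcard (by
    obtain ⟨m, hm⟩ := Subgroup.card_subgroup_dvd_card K
    rw [hm, Nat.cast_mul, h, zero_mul])⟩
  rw [← range_lift K hK]
  exact RingHom.isSemisimpleRing_of_surjective
    (MonoidAlgebra.lift F (Module.End F E) K (rep K hK)).rangeRestrict.toRingHom
    (AlgHom.rangeRestrict_surjective _)

end

end Cfsg.Agent.H984.S4790
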