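import Mathlib
import Cfsg.Agent.H697.Alm.Defs
import Cfsg.Agent.H984.S4790.MatAlg
import Cfsg.Agent.H698.CaseS
import Cfsg.Agent.LieRecognition.FieldSemilinear

/-!
# S4790, T6: the components (helper984)
-/

set_option autoImplicit false

namespace Cfsg.Agent.H984.S4790

open Cfsg Cfsg.Agent.H697.Alm Module
open Cfsg.Agent.SignalizersComponents.Components
open scoped commutatorElement

universe u v w

section semi

variable {D : Type v} {E : Type u} {F : Type w} [Group D] [AddCommGroup E] [DistribMulAction D E] [Field F]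
  [Module F E]

theorem smul_inj' [Nontrivial E] (d : D) {a b : F} (h : ∀ e : E, a • (d • e) = b • (d • e)) : a = b := by
  obtain ⟨x, hx⟩ := exists_ne (0 : E)
  have h1 := h (d⁻¹ • x)
  rw [smul_inv_smul] at h1
  exact smul_left_injective F hx h1

/-- the semilinear action on `F` -/
theorem exists_sigma [Nontrivial E] [Finite F] (fr : ∀ (d : D) (c : F), ∃ c' : F, ∀ e : E, d • (c • e) = c' • (d • e)) :
    ∃ σ : D →* (F ≃+* F), ∀ (d : D) (c : F) (e : E), d • (c • e) = σ d c • (d • e) := by
  choose s hs using fr
  have hadd : ∀ d a b, s d (a + b) = s d a + s d b := fun d a b => smul_inj' (E := E) d fun e => by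
    rw [← hs, add_smul, smul_add, hs, hs, add_smul]
  have hmul : ∀ d a b, s d (a * b) = s d a * s d b := fun d a b => smul_inj' (E := E) d fun e => by
    rw [← hs, mul_smul, hs, hs, mul_smul]
  have hone : ∀ d, s d 1 = 1 := fun d => smul_inj' (E := E) d fun e => by rw [← hs, one_smul, one_smul]
  have hzero : ∀ d, s d 0 = 0 := fun d => smul_inj' (E := E) d fun e => by
    rw [← hs, zero_smul, zero_smul, smul_zero]
  have hcomp : ∀ d d' c, s (d * d') c = s d (s d' c) := fun d d' c => smul_inj' (E := E) (d * d') fun e => by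
    rw [← hs, mul_smul, mul_smul, hs d' c e, hs d (s d' c) (d' • e)]
  have hid : ∀ c, s 1 c = c := fun c => smul_inj' (E := E) (1 : D) fun e => by
    rw [← hs, one_smul, one_smul]
  let f : D → F →+* F := fun d =>
    { toFun := s d, map_one' := hone d, map_mul' := hmul d, map_zero' := hzero d, map_add' := hadd d }
  have hbij : ∀ d, Function.Bijective (f d) := fun d => Finite.injective_iff_bijective.1 (f d).injective
  let σ : D →* (F ≃+* F) :=
    { toFun := fun d => RingEquiv.ofBijective (f d) (hbij d)
      map_one' := RingEquiv.ext hid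
      map_mul' := fun d d' => RingEquiv.ext (hcomp d d') }
  exact ⟨σ, hs⟩

/-- perfect subgroups act linearly -/
theorem perfect_le_CF [Nontrivial E] [Finite F] (fr : Fr D E F) {K : Subgroup D} (hK : ⁅K, K⁆ = K) :
    K ≤ CF D E F := by
  obtain ⟨σ, hσ⟩ := exists_sigma fr.norm
  have hcyc := Cfsg.Agent.LieRecognition.FieldSemilinear.isCyclic_ringAut F
  have hker : K ≤ σ.ker := by
    rw [← hK, Subgroup.commutator_le]
    intro x _ y _
    rw [MonoidHom.mem_ker, map_commutatorElement, commutatorElement_eq_one_iff_mul_comm]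
    exact (IsCyclic.commGroup (α := F ≃+* F)).mul_comm _ _
  intro k hk c e
  have h1 : σ k = 1 := hker hk
  rw [hσ, h1]
  rfl

/-- the group of elements commuting with an endomorphism -/
def cenGrp (x : Module.End F E) : Subgroup D where
  carrier := {d | ∀ e : E, x (d • e) = d • x e}
  one_mem' := fun e => by rw [one_smul, one_smul]
  mul_mem' := fun {a b} ha hb e => by
    rw [mul_smul, ha (b • e), hb e, mul_smul]
  inv_mem' := fun {a} ha e => by
    have h := ha (a⁻¹ • e)
    rw [smul_inv_smul] at h
    rw [h, inv_smul_smul]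

theorem alg_mono {K L : Subgroup D} (h : K ≤ L) : alg E F K ≤ alg E F L :=
  Algebra.adjoin_mono fun _ ⟨n, hn, hg⟩ => ⟨n, h hn, hg⟩

/-- `x` commutes with `alg K` iff it commutes with `K` -/
theorem comm_of_le_cenGrp {x : Module.End F E} {K : Subgroup D} (h : K ≤ cenGrp x) {y : Module.End F E}
    (hy : y ∈ alg E F K) : x * y = y * x := by
  have h1 : alg E F K ≤ Subalgebra.centralizer F ({x} : Set (Module.End F E)) := by
    unfold alg
    rw [Algebra.adjoin_le_iff]
    rintro g ⟨n, hn, hg⟩
    rw [SetLike.mem_coe, Subalgebra.mem_centralizer_iff]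
    intro z hz
    rw [Set.mem_singleton_iff] at hz
    rw [hz]
    refine LinearMap.ext fun e => ?_
    change x (g e) = g (x e)
    rw [hg, hg]
    exact h hn e
  have h2 := h1 hy
  rw [Subalgebra.mem_centralizer_iff] at h2
  exact h2 x rfl

theorem le_cenGrp_of_comm {x : Module.End F E} {K : Subgroup D} (hK : K ≤ CF D E F)
    (h : ∀ y ∈ alg E F K, x * y = y * x) : K ≤ cenGrp x := by
  intro k hk e
  have h1 := h _ (rep_mem K hK ⟨k, hk⟩)
  exact LinearMap.congr_fun h1 e

theorem alg_comm {K L : Subgroup D} (h : ∀ k ∈ K, ∀ l ∈ L, k * l = l * k) (hL : L ≤ CF D E F) {x y : Module.End F E}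
    (hx : x ∈ alg E F K) (hy : y ∈ alg E F L) : x * y = y * x := by
  refine comm_of_le_cenGrp (fun l hl e => ?_) hy
  have h1 : K ≤ cenGrp (rep L hL ⟨l, hl⟩) := fun k hk e => by
    rw [rep_apply, rep_apply]
    change l • (k • e) = k • (l • e)
    rw [← mul_smul, ← mul_smul, h k hk l hl]
  have h2 := comm_of_le_cenGrp h1 hx
  exact (LinearMap.congr_fun h2 e).symm

end semi

section index

variable {D : Type u} [Group D] [Finite D]

omit [Finite D] in
theorem conj_mem_iff_normalizer {K : Subgroup D} {d : D} :
    K.map (MulAut.conj d).toMonoidHom = K ↔ d ∈ Subgroup.normalizer (K : Set D) := by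
  rw [Subgroup.mem_normalizer_iff]
  constructor
  · intro h x
    constructor
    · intro hx
      have h1 : d * x * d⁻¹ ∈ K.map (MulAut.conj d).toMonoidHom := ⟨x, hx, rfl⟩
      rwa [h] at h1
    · intro hx
      rw [← h] at hx
      obtain ⟨y, hy, hyx⟩ := hx
      have h2 : y = x := (MulAut.conj d).injective hyx
      rwa [← h2]
  · intro h
    ext x
    constructor
    · rintro ⟨y, hy, rfl⟩
      exact (h y).1 hy
    · intro hx
      refine ⟨d⁻¹ * x * d, (h _).2 ?_, ?_⟩
      · rwa [show d * (d⁻¹ * x * d) * d⁻¹ = x by group]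
      · change d * (d⁻¹ * x * d) * d⁻¹ = x
        group

omit [Finite D] in
/-- the action on the components -/
theorem index_normalizers {k : ℕ} (K : Fin k → Subgroup D) (hinj : Function.Injective K)
    (hconj : ∀ (d : D) (i : Fin k), ∃ j, K j = (K i).map (MulAut.conj d).toMonoidHom) :
    (⨅ i, Subgroup.normalizer (K i : Set D)).index ≤ k.factorial := by
  choose f hf using hconj
  have hcomp : ∀ d d' i, f (d * d') i = f d (f d' i) := by
    intro d d' i
    apply hinj
    rw [hf, hf, hf, Subgroup.map_map]
    congr 1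
    ext x
    change d * d' * x * (d * d')⁻¹ = d * (d' * x * d'⁻¹) * d⁻¹
    group
  have hone : ∀ i, f 1 i = i := by
    intro i
    apply hinj
    rw [hf]
    ext x
    constructor
    · rintro ⟨y, hy, rfl⟩
      change 1 * y * 1⁻¹ ∈ K i
      rwa [one_mul, inv_one, mul_one]
    · intro hx
      refine ⟨x, hx, ?_⟩
      change 1 * x * 1⁻¹ = x
      rw [one_mul, inv_one, mul_one]
  let φ : D →* Equiv.Perm (Fin k) := MonoidHom.mk'
    (fun d => ⟨f d, f d⁻¹, fun i => by rw [← hcomp, inv_mul_cancel, hone],
      fun i => by rw [← hcomp, mul_inv_cancel, hone]⟩)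
    (fun a b => Equiv.ext (hcomp a b))
  have hker : φ.ker = ⨅ i, Subgroup.normalizer (K i : Set D) := by
    ext d
    rw [MonoidHom.mem_ker, Subgroup.mem_iInf]
    constructor
    · intro h i
      rw [← conj_mem_iff_normalizer, ← hf]
      have h1 : φ d i = i := by rw [h]; rfl
      exact congrArg K h1
    · intro h
      apply Equiv.ext
      intro i
      apply hinj
      change K (f d i) = K i
      rw [hf, conj_mem_iff_normalizer]
      exact h i
  rw [← hker, Subgroup.index_ker]
  calc Nat.card φ.range ≤ Nat.card (Equiv.Perm (Fin k)) := Subgroup.card_le_card_group _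
    _ = k.factorial := by rw [Nat.card_eq_fintype_card, Fintype.card_perm, Fintype.card_fin]

/-- the action of the common normalizer -/
theorem relIndex_centralizer {k : ℕ} (K : Fin k → Subgroup D) (hperf : ∀ i, Group.IsPerfect (K i)) :
    (Subgroup.centralizer ((⨆ i, K i : Subgroup D) : Set D)).relIndex (⨅ i, Subgroup.normalizer (K i : Set D)) ≤
      ∏ i, Nat.card (MulAut (K i ⧸ Subgroup.center (K i))) := by
  let N : Subgroup D := ⨅ i, Subgroup.normalizer (K i : Set D)
  have hN : ∀ i, N ≤ Subgroup.normalizer (K i : Set D) := fun i => iInf_le _ i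
  let ψ : N →* (Π i, MulAut (K i ⧸ Subgroup.center (K i))) := MonoidHom.pi fun i =>
    (StdRank2.OutAct.quot (K i)).comp ((K i).normalizerMonoidHom.comp (Subgroup.inclusion (hN i)))
  have hker : ψ.ker = (Subgroup.centralizer ((⨆ i, K i : Subgroup D) : Set D)).subgroupOf N := by
    ext d
    rw [MonoidHom.mem_ker, Subgroup.mem_subgroupOf, Subgroup.mem_centralizer_iff]
    constructor
    · intro h
      have h1 : ∀ i, K i ≤ Subgroup.centralizer ({(d : D)} : Set D) := by
        intro i x hx
        have h2 : StdRank2.OutAct.quot (K i) ((K i).normalizerMonoidHom (Subgroup.inclusion (hN i) d)) = 1 :=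
          congrFun h i
        have h3 := H698.CaseS.eq_one_of_quot_eq_one (hperf i) h2
        have h4 : Subgroup.inclusion (hN i) d ∈ (K i).normalizerMonoidHom.ker := h3
        rw [Subgroup.normalizerMonoidHom_ker, Subgroup.mem_subgroupOf, Subgroup.mem_centralizer_iff] at h4
        have h5 := h4 x hx
        rw [Subgroup.mem_centralizer_singleton_iff]
        exact h5
      intro x hx
      have h6 : x ∈ Subgroup.centralizer ({(d : D)} : Set D) := (iSup_le h1) hx
      rw [Subgroup.mem_centralizer_singleton_iff] at h6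
      exact h6
    · intro h
      funext i
      have h4 : Subgroup.inclusion (hN i) d ∈ (K i).normalizerMonoidHom.ker := by
        rw [Subgroup.normalizerMonoidHom_ker, Subgroup.mem_subgroupOf, Subgroup.mem_centralizer_iff]
        intro x hx
        exact h x ((le_iSup K i) hx)
      rw [MonoidHom.mem_ker] at h4
      change StdRank2.OutAct.quot (K i) ((K i).normalizerMonoidHom (Subgroup.inclusion (hN i) d)) = 1
      rw [h4, map_one]
  rw [Subgroup.relIndex, ← hker, Subgroup.index_ker, ← Nat.card_pi]
  exact Subgroup.card_le_card_group _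

end index

section

variable {D E : Type u} [Group D] [Finite D] [AddCommGroup E] [Finite E] [Nontrivial E] [DistribMulAction D E]
  [FaithfulSMul D E] {F : Type u} [Field F] [Finite F] [Module F E]

omit [Group D] [Finite D] [Finite E] [DistribMulAction D E] [FaithfulSMul D E] [Finite F] in
theorem card_ne_zero {p : ℕ} (hp : p.Prime) (hpE : ∀ e : E, p • e = 0) (hcop : ¬ p ∣ Nat.card D) :
    (Nat.card D : F) ≠ 0 := by
  have hchar : CharP F p := Cfsg.Agent.H698.Fld.charP (E := E) hp hpE
  intro h
  exact hcop ((CharP.cast_eq_zero_iff F p _).1 h)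

/-- one component -/
theorem comp_mat {p : ℕ} (hp : p.Prime) (hpE : ∀ e : E, p • e = 0) (hcop : ¬ p ∣ Nat.card D) (fr : Fr D E F)
    {K : Subgroup D} (hK : IsComponent K) :
    K ≤ CF D E F ∧ ∃ d : ℕ, 2 ≤ d ∧ CSA (alg E F K) ∧ finrank F (alg E F K) = d ^ 2 ∧
      H698.Rep.{u, u} p d (K ⧸ Subgroup.center K) := by
  classical
  have hperf : ∀ K : Subgroup D, IsComponent K → K ≤ CF D E F := fun K hK =>
    perfect_le_CF fr (component_commutator_self hK)
  have hKC := hperf K hK
  refine ⟨hKC, ?_⟩
  have hLC : layer D ≤ CF D E F := layer_le_iff.2 hperf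
  have hLn : (layer D).Normal := layer_normal D
  have hLcsa := fr.csa (layer D) hLn hLC
  have hchar : CharP F p := Cfsg.Agent.H698.Fld.charP (E := E) hp hpE
  -- the centre
  have hcen : ∀ x ∈ alg E F K, (∀ y ∈ alg E F K, x * y = y * x) → ∃ c : F, x = c • (1 : Module.End F E) := by
    intro x hx hxy
    have h1 : layer D ≤ cenGrp x := by
      rw [layer_le_iff]
      intro K' hK'
      by_cases hne : K' = K
      · rw [hne]
        exact le_cenGrp_of_comm hKC hxy
      · refine le_cenGrp_of_comm (hperf K' hK') fun y hy => ?_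
        exact alg_comm (fun k hk l hl => (H698.Lay.comm_of_ne hK' hK hne hl hk).symm) (hperf K' hK') hx hy
    exact hLcsa.cen x (alg_mono (component_le_layer hK) hx) fun y hy => comm_of_le_cenGrp h1 hy
  have hfinE : Finite (Module.End F E) := Finite.of_injective (fun f : Module.End F E => (f : E → E)) DFunLike.coe_injective
  have hss := alg_semisimple (E := E) (F := F) K hKC (card_ne_zero (E := E) hp hpE hcop)
  have hntE : Nontrivial (Module.End F E) := inferInstance
  obtain ⟨d, hd1, ⟨e⟩⟩ := exists_matrix (F := F) (S := alg E F K) fun x hx => by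
    obtain ⟨c, hc⟩ := hcen x x.2 fun y hy => congrArg Subtype.val (hx ⟨y, hy⟩)
    refine ⟨c, Subtype.ext ?_⟩
    rw [hc]
    rfl
  -- the representation
  let r : K →* (alg E F K) :=
    { toFun := fun k => ⟨rep K hKC k, rep_mem K hKC k⟩
      map_one' := Subtype.ext (map_one (rep K hKC))
      map_mul' := fun a b => Subtype.ext (map_mul (rep K hKC) a b) }
  let ρ : K →* Matrix.GeneralLinearGroup (Fin d) F := ((e : (alg E F K) →* Matrix (Fin d) (Fin d) F).comp r).toHomUnits
  have hρ : Function.Injective ρ := by
    intro a b h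
    have h1 := congrArg (fun x : Matrix.GeneralLinearGroup (Fin d) F => (x : Matrix (Fin d) (Fin d) F)) h
    have h2 : r a = r b := e.injective h1
    have h3 : rep K hKC a = rep K hKC b := congrArg Subtype.val h2
    apply Subtype.ext
    apply FaithfulSMul.eq_of_smul_eq_smul (α := E)
    intro v
    exact LinearMap.congr_fun h3 v
  have hd2 : 2 ≤ d := by
    by_contra hcon
    have hd : d = 1 := by omega
    subst hd
    apply quasisimple_not_isMulCommutative hK.2
    refine ⟨⟨fun x y => hρ ?_⟩⟩
    rw [map_mul, map_mul]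
    exact H698.CaseS.comm_gl_one _ _
  refine ⟨d, hd2, csa_of_equiv hd1 e hcen, finrank_of_equiv e, F, inferInstance, inferInstance, hchar, K, inferInstance,
    inferInstance, QuotientGroup.mk' _, ρ, QuotientGroup.mk'_surjective _, ?_, hK.2.1.commutator_eq_top, hρ, ?_⟩
  · rw [QuotientGroup.ker_mk']
  · exact fun h => hcop (h.trans (Subgroup.card_subgroup_dvd_card K))

theorem alg_finrank_mono {F : Type u} {E : Type u} [Field F] [AddCommGroup E] [Module F E] [Module.Finite F E]
    {S T : Subalgebra F (Module.End F E)} (h : S ≤ T) : finrank F S ≤ finrank F T := by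
  rw [← Subalgebra.finrank_toSubmodule, ← Subalgebra.finrank_toSubmodule]
  exact Submodule.finrank_mono h

theorem alg_finrank_le {F : Type u} {E : Type u} [Field F] [AddCommGroup E] [Module F E] [Module.Finite F E]
    (S : Subalgebra F (Module.End F E)) : finrank F S ≤ finrank F E ^ 2 := by
  rw [← Subalgebra.finrank_toSubmodule]
  refine (Submodule.finrank_le _).trans ?_
  rw [Module.finrank_linearMap, pow_two]

/-- the statement of T1 -/
def LinDisj (F : Type u) (E : Type u) [Field F] [AddCommGroup E] [Module F E] : Prop :=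
  ∀ S T : Subalgebra F (Module.End F E), CSA S → (∀ s ∈ S, ∀ t ∈ T, s * t = t * s) →
    finrank F S * finrank F T ≤ finrank F (S ⊔ T : Subalgebra F (Module.End F E))

/-- **T6 from T1** -/
theorem comps_of (hT1 : LinDisj F E) {p : ℕ} (hp : p.Prime) (hpE : ∀ e : E, p • e = 0) (hcop : ¬ p ∣ Nat.card D)
    (fr : Fr D E F) :
    ∃ (k : ℕ) (K : Fin k → Subgroup D) (w : Fin k → ℕ), Function.Injective K ∧ (∀ i, IsComponent (K i)) ∧
      (∀ K' : Subgroup D, IsComponent K' → ∃ i, K i = K') ∧ (∀ i, K i ≤ CF D E F) ∧ (∀ i, 2 ≤ w i) ∧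
      (∀ i, H698.Rep.{u, u} p (w i) (K i ⧸ Subgroup.center (K i))) ∧
      (∏ i, w i) ^ 2 * finrank F (alg E F (CF D E F ⊓ Subgroup.centralizer ((⨆ i, K i : Subgroup D) : Set D))) ≤
        finrank F E ^ 2 ∧
      (CF D E F ⊓ Subgroup.centralizer ((⨆ i, K i : Subgroup D) : Set D)).relIndex (CF D E F) ≤
        k.factorial * ∏ i, Nat.card (MulAut (K i ⧸ Subgroup.center (K i))) := by
  classical
  have : Fintype {K : Subgroup D // IsComponent K} := Fintype.ofFinite _
  let en := (Fintype.equivFin {K : Subgroup D // IsComponent K}).symm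
  obtain ⟨k, hk⟩ : ∃ k, k = Fintype.card {K : Subgroup D // IsComponent K} := ⟨_, rfl⟩
  rw [← hk] at en
  let K : Fin k → Subgroup D := fun i => (en i : Subgroup D)
  have hinj : Function.Injective K := fun i j h => en.injective (Subtype.ext h)
  have hK : ∀ i, IsComponent (K i) := fun i => (en i).2
  have hsurj : ∀ K' : Subgroup D, IsComponent K' → ∃ i, K i = K' := fun K' h =>
    ⟨en.symm ⟨K', h⟩, by change ((en (en.symm ⟨K', h⟩) : {K : Subgroup D // IsComponent K}) : Subgroup D) = K'
                         rw [Equiv.apply_symm_apply]⟩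
  choose hKC w hw2 hcsa hfr hrep using fun i => comp_mat (F := F) hp hpE hcop fr (hK i)
  refine ⟨k, K, w, hinj, hK, hsurj, hKC, hw2, hrep, ?_, ?_⟩
  · -- dimensions
    have hfinFE : Module.Finite F E := Module.Finite.of_finite
    let X : Subgroup D := CF D E F ⊓ Subgroup.centralizer ((⨆ i, K i : Subgroup D) : Set D)
    have hXle : ∀ i, ∀ x ∈ X, ∀ y ∈ K i, x * y = y * x := fun i x hx y hy =>
      ((Subgroup.mem_centralizer_iff.1 hx.2) y (le_iSup K i hy)).symm
    have key : ∀ s : Finset (Fin k), (∏ i ∈ s, w i) ^ 2 * finrank F (alg E F X) ≤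
        finrank F (alg E F (X ⊔ ⨆ i ∈ s, K i)) := by
      intro s
      induction s using Finset.induction_on with
      | empty =>
        rw [Finset.prod_empty, one_pow, one_mul]
        exact alg_finrank_mono (alg_mono le_sup_left)
      | insert j s hj ih =>
        let M : Subgroup D := X ⊔ ⨆ i ∈ s, K i
        have hMC : M ≤ CF D E F := sup_le inf_le_left (iSup₂_le fun i _ => hKC i)
        have hcomm : ∀ x ∈ K j, ∀ y ∈ M, x * y = y * x := by
          have h1 : M ≤ Subgroup.centralizer (K j : Set D) := by
            refine sup_le ?_ (iSup₂_le fun i hi => ?_)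
            · intro x hx
              rw [Subgroup.mem_centralizer_iff]
              intro y hy
              exact (hXle j x hx y hy).symm
            · have hne : K i ≠ K j := fun h => hj (by rw [← hinj h]; exact hi)
              exact component_le_centralizer_of_ne (hK i) (hK j) hne
          intro x hx y hy
          exact (Subgroup.mem_centralizer_iff.1 (h1 hy)) x hx
        have h2 := hT1 (alg E F (K j)) (alg E F M) (hcsa j) fun a ha b hb => alg_comm hcomm hMC ha hb
        have h3 : (alg E F (K j) ⊔ alg E F M : Subalgebra F (Module.End F E)) ≤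
            alg E F (X ⊔ ⨆ i ∈ insert j s, K i) := by
          refine sup_le (alg_mono ?_) (alg_mono ?_)
          · exact (le_iSup₂_of_le (f := fun i (_ : i ∈ insert j s) => K i) j (Finset.mem_insert_self j s)
              le_rfl).trans le_sup_right
          · refine sup_le_sup_left (iSup₂_le fun i hi => ?_) X
            exact le_iSup₂_of_le (f := fun i (_ : i ∈ insert j s) => K i) i (Finset.mem_insert_of_mem hi) le_rfl
        have h4 : finrank F (alg E F (K j) ⊔ alg E F M : Subalgebra F (Module.End F E)) ≤
            finrank F (alg E F (X ⊔ ⨆ i ∈ insert j s, K i)) := alg_finrank_mono h3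
        rw [hfr j] at h2
        calc (∏ i ∈ insert j s, w i) ^ 2 * finrank F (alg E F X)
            = w j ^ 2 * ((∏ i ∈ s, w i) ^ 2 * finrank F (alg E F X)) := by
              rw [Finset.prod_insert hj]; ring
          _ ≤ w j ^ 2 * finrank F (alg E F M) := Nat.mul_le_mul_left _ ih
          _ ≤ _ := h2.trans h4
    have h5 := key Finset.univ
    exact h5.trans (alg_finrank_le _)
  · -- index
    have h1 : (CF D E F ⊓ Subgroup.centralizer ((⨆ i, K i : Subgroup D) : Set D)).relIndex (CF D E F) =
        (Subgroup.centralizer ((⨆ i, K i : Subgroup D) : Set D)).relIndex (CF D E F) := by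
      rw [inf_comm, Subgroup.inf_relIndex_right]
    rw [h1]
    have hle : Subgroup.centralizer ((⨆ i, K i : Subgroup D) : Set D) ≤ ⨅ i, Subgroup.normalizer (K i : Set D) := by
      refine le_iInf fun i => ?_
      refine (Subgroup.centralizer_le (show (K i : Set D) ⊆ ((⨆ i, K i : Subgroup D) : Set D) from le_iSup K i)).trans ?_
      exact Subgroup.centralizer_le_normalizer _
    have h2 : (Subgroup.centralizer ((⨆ i, K i : Subgroup D) : Set D)).relIndex (CF D E F) ≤
        (Subgroup.centralizer ((⨆ i, K i : Subgroup D) : Set D)).index := by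
      have hne : (Subgroup.centralizer ((⨆ i, K i : Subgroup D) : Set D)).index ≠ 0 := Subgroup.index_ne_zero_of_finite
      rw [← Subgroup.relIndex_top_right]
      exact Subgroup.relIndex_le_of_le_right le_top (by rwa [Subgroup.relIndex_top_right])
    refine h2.trans ?_
    rw [← Subgroup.relIndex_mul_index hle, mul_comm]
    refine Nat.mul_le_mul (index_normalizers K hinj fun d i => hsurj _ (isComponent_conj d (hK i))) ?_
    exact relIndex_centralizer K fun i => (hK i).2.1

end

end Cfsg.Agent.H984.S4790
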